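import Mathlib
import Groth.Prelude.Def_FlatCA
import Groth.Prelude.Def_Found
import Groth.Prelude.Def_Hensel
import Groth.Agent.FlatInjLib.AssFibre
import Groth.Agent.FlatInjLib.EtaleTransfer
import Groth.Agent.WeakAssLib.Basic
import Groth.Agent.WeakBCLib.Main
import Groth.Agent.WEtAmpLib.WeakAss
import Groth.Agent.S0506
import Groth.Agent.S0507
import Groth.Agent.S0508
import Groth.Agent.S9589
import Groth.Agent.S12236
import Groth.Agent.S1215
import Groth.Agent.S1234
import Groth.Agent.S1235
import Groth.Agent.WEtAmpLib.Basic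

/-! Weakly associated primes of `N ⊗ M` for a module `N` flat at the prime. -/

set_option autoImplicit false
universe u

open scoped TensorProduct

namespace WeakAssTensLib

variable {R S : Type u} [CommRing R] [CommRing S] [Algebra R S] [Algebra.FiniteType R S]
  {N : Type u} [AddCommGroup N] [Module S N] [Module R N] [IsScalarTower R S N] [Module.Finite S N]
  {M : Type u} [AddCommGroup M] [Module R M] (p : Ideal R) [p.IsPrime] (q : Ideal S) [q.IsPrime] [q.LiesOver p]

omit [Algebra.FiniteType R S] in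
theorem comap_fiberIdeal : (FlatCA.fiberIdeal p q).comap (FibAssLib.incl S p) = q := by
  let Q := PrimeSpectrum.primesOverOrderIsoFiber R S p ⟨q, inferInstance, inferInstance⟩
  have hQ : Q.asIdeal.comap (FibAssLib.incl S p) = q :=
    congrArg Subtype.val ((PrimeSpectrum.primesOverOrderIsoFiber R S p).symm_apply_apply ⟨q, inferInstance, inferInstance⟩)
  conv_lhs => rw [← hQ, FlatInjLib.fiberIdeal_comap]
  exact hQ

/-- A weakly associated point of the base and an associated point of the fibre give a weakly associated point. -/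
theorem mem_weakAss_tensor (hflat : FlatCA.FlatAt R q N) (hM : p ∈ FlatCA.weakAss R M)
    (hN : FlatCA.fiberIdeal p q ∈ associatedPrimes (p.Fiber S) (FlatCA.fiberMod p S N)) :
    q ∈ FlatCA.weakAss S (N ⊗[R] M) := by
  classical
  haveI : IsNoetherianRing (p.Fiber S) := Algebra.FiniteType.isNoetherianRing p.ResidueField _
  let P := FlatCA.fiberIdeal p q
  obtain ⟨hPp, x', hx'⟩ := isAssociatedPrime_iff.1 hN
  have hPq : P.comap (FibAssLib.incl S p) = q := comap_fiberIdeal p q
  obtain ⟨t, ht, x, hx⟩ := FibAssLib.exists_smul_eq_toFiber p x'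
  have hkill : ∀ f : S, FibAssLib.incl S p f ∈ P ↔ f • FlatCA.toFiberMod p S N x = 0 := fun f => by
    show FibAssLib.incl S p f ∈ FlatCA.fiberIdeal p q ↔ _
    rw [hx', Submodule.mem_colon_singleton, Submodule.mem_bot, ← FibAssLib.smul_eq, ← hx, smul_comm]
    exact ⟨fun h => by rw [h, smul_zero], fun h => FibAssLib.eq_zero_of_smul p ht h⟩
  -- generators of the fibre ideal and the finitely many elements of `p` they need
  obtain ⟨G, hG⟩ := (IsNoetherian.noetherian P : P.FG)
  have hgen : ∀ g ∈ G, ∃ f : S, f ∈ q ∧ ∃ v : p.Fiber S, g = v * FibAssLib.incl S p f := fun g hg => by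
    have hgP : g ∈ P := hG ▸ Ideal.subset_span hg
    obtain ⟨c, hc, s, hs⟩ := FibAssLib.exists_incl_eq (S := S) p g
    obtain ⟨v, hv⟩ := (FibAssLib.isUnit_incl (S := S) p hc).exists_left_inv
    exact ⟨s, hPq.le (show FibAssLib.incl S p s ∈ P from hs ▸ P.mul_mem_left _ hgP), v,
      by rw [← hs, ← mul_assoc, hv, one_mul]⟩
  choose f hfq v hfv using hgen
  have hin : ∀ g (hg : g ∈ G), ∃ r : R, r ∉ p ∧
      (algebraMap R S r * f g hg) • x ∈ p.map (algebraMap R S) • (⊤ : Submodule S N) := fun g hg => by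
    have h0 : FlatCA.toFiberMod p S N (f g hg • x) = 0 := by
      rw [map_smul]
      exact (hkill _).1 (Ideal.mem_comap.1 (hPq.ge (hfq g hg)))
    obtain ⟨r, hr, hrz⟩ := FibAssLib.exists_smul_eq_zero_of_β p
      (z := (Submodule.Quotient.mk (f g hg • x) : FibAssLib.quot (S := S) N p)) h0
    refine ⟨r, hr, ?_⟩
    rw [mul_smul, algebraMap_smul, ← Submodule.Quotient.mk_eq_zero, Submodule.Quotient.mk_smul]
    exact hrz
  choose r hr hrx using hin
  -- an element of `M` killed at `p` by the finitely many elements of `p`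
  obtain ⟨hpp, m, hm1, hm2⟩ := (Groth.Agent.WeakAssLib.mem_weakAss_iff p).1 hM
  have hT : ∀ (T : Finset R), (∀ a ∈ T, a ∈ p) → ∃ y : M, (∀ c : R, c • y = 0 → c ∈ p) ∧
      (∀ a ∈ p, ∃ s, s ∉ p ∧ ∃ k : ℕ, (s * a ^ k) • y = 0) ∧ ∀ a ∈ T, ∃ s, s ∉ p ∧ (s * a) • y = 0 := by
    intro T
    induction T using Finset.induction_on with
    | empty => exact fun _ => ⟨m, hm1, hm2, fun a ha => absurd ha (Finset.notMem_empty a)⟩
    | @insert a T ha ih =>
      intro hTp
      obtain ⟨y, hy1, hy2, hy3⟩ := ih fun b hb => hTp b (Finset.mem_insert_of_mem hb)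
      have hex : ∃ k : ℕ, ∃ s, s ∉ p ∧ (s * a ^ k) • y = 0 := by
        obtain ⟨s, hs, k, hk⟩ := hy2 a (hTp a (Finset.mem_insert_self a T))
        exact ⟨k, s, hs, hk⟩
      obtain ⟨s, hs, hk⟩ := Nat.find_spec hex
      cases hn : Nat.find hex with
      | zero =>
        rw [hn, pow_zero, mul_one] at hk
        exact absurd (hy1 s hk) hs
      | succ k =>
        rw [hn] at hk
        refine ⟨a ^ k • y, fun c hc => ?_, fun b hb => ?_, fun b hb => ?_⟩
        · by_contra hcp
          exact Nat.find_min hex (by rw [hn]; exact Nat.lt_succ_self k) ⟨c, hcp, by rw [mul_smul]; exact hc⟩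
        · obtain ⟨w, hw, l, hl⟩ := hy2 b hb
          exact ⟨w, hw, l, by rw [smul_comm, hl, smul_zero]⟩
        · rcases Finset.mem_insert.1 hb with rfl | hb
          · exact ⟨s, hs, by rw [← mul_smul, mul_assoc, ← pow_succ']; exact hk⟩
          · obtain ⟨w, hw, hl⟩ := hy3 b hb
            exact ⟨w, hw, by rw [smul_comm, hl, smul_zero]⟩
  -- the finitely many elements of `p`
  have hfg : ∀ g (hg : g ∈ G), ∃ T : Finset R, (∀ a ∈ T, a ∈ p) ∧
      (algebraMap R S (r g hg) * f g hg) • x ∈ (Ideal.span (T : Set R)).map (algebraMap R S) • (⊤ : Submodule S N) := by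
    intro g hg
    refine Submodule.smul_induction_on (hrx g hg) (fun a ha n _ => ?_) fun y z hy hz => ?_
    · obtain ⟨T, hT, haT⟩ := Submodule.mem_span_finite_of_mem_span (show a ∈ Submodule.span S (algebraMap R S '' p) from ha)
      obtain ⟨T', hT', rfl⟩ := Finset.subset_set_image_iff.1 hT
      refine ⟨T', fun b hb => hT' hb, Submodule.smul_mem_smul ?_ trivial⟩
      rw [Ideal.map_span, ← Finset.coe_image]
      exact haT
    · obtain ⟨T, hT, hy⟩ := hy
      obtain ⟨T', hT', hz⟩ := hz
      refine ⟨T ∪ T', fun b hb => (Finset.mem_union.1 hb).elim (hT b) (hT' b), ?_⟩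
      rw [Finset.coe_union, Ideal.span_union, Ideal.map_sup, Submodule.sup_smul]
      exact add_mem (Submodule.mem_sup_left hy) (Submodule.mem_sup_right hz)
  choose T hTp hTx using hfg
  obtain ⟨y, hy1, hy2, hy3⟩ := hT (G.attach.biUnion fun g => T g.1 g.2) fun a ha => by
    obtain ⟨g, -, hag⟩ := Finset.mem_biUnion.1 ha
    exact hTp g.1 g.2 a hag
  let z : N ⊗[R] M := x ⊗ₜ y
  -- the annihilator of `z` lies in `q`
  have hz : ∀ s : S, s • z = 0 → s ∈ q := by
    intro s hsz
    by_contra hsq
    let J : Ideal R := (Submodule.span R {y}).annihilator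
    let ι : R ⧸ J →ₗ[R] M := Submodule.liftQ J (LinearMap.toSpanSingleton R M y)
      fun c hc => (Submodule.mem_annihilator_span_singleton _ _).1 hc
    have hι : Function.Injective ι := LinearMap.ker_eq_bot.1 (Submodule.ker_liftQ_eq_bot _ _ _
      fun c hc => (Submodule.mem_annihilator_span_singleton _ _).2 hc)
    let ℓ := LocalizedModule.mkLinearMap q.primeCompl N
    haveI : Module.Flat R (LocalizedModule q.primeCompl N) := hflat
    have h1 : ι.lTensor (LocalizedModule q.primeCompl N) ((ℓ (s • x)) ⊗ₜ[R] Ideal.Quotient.mk J 1) = 0 := by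
      have : (s • x) ⊗ₜ[R] y = (0 : N ⊗[R] M) := by rw [← TensorProduct.smul_tmul']; exact hsz
      have := congrArg ((ℓ.restrictScalars R).rTensor M) this
      rw [map_zero, LinearMap.rTensor_tmul] at this
      rw [LinearMap.lTensor_tmul]
      rw [show ι (Ideal.Quotient.mk J 1) = y from one_smul R y]
      exact this
    have h2 : ((ℓ (s • x)) ⊗ₜ[R] (Ideal.Quotient.mk J 1)) = 0 :=
      Module.Flat.lTensor_preserves_injective_linearMap ι hι (h1.trans (map_zero _).symm)
    have h3 := congrArg (TensorProduct.tensorQuotEquivQuotSMul (LocalizedModule q.primeCompl N) J) h2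
    rw [map_zero, TensorProduct.tensorQuotEquivQuotSMul_tmul_mk, one_smul, Submodule.Quotient.mk_eq_zero] at h3
    have hJp : J ≤ p := fun c hc => hy1 c ((Submodule.mem_annihilator_span_singleton _ _).1 hc)
    obtain ⟨w, hw, hwx⟩ := (FlatInjLib.mk_mem_iff p q (s • x) 1).1 (Submodule.smul_mono hJp le_rfl h3)
    have h4 := FibAssLib.toFiberMod_map_eq_zero p hwx
    rw [← mul_smul, map_smul] at h4
    exact Ideal.IsPrime.mul_notMem inferInstance hw hsq (hPq.le (Ideal.mem_comap.2 ((hkill _).2 h4)))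
  refine ⟨z, ⟨inferInstance, fun s hs => hz s ((Submodule.mem_annihilator_span_singleton _ _).1 hs)⟩, ?_⟩
  -- minimality
  rintro Q ⟨hQ, hzQ⟩ hQq
  have hQmem : ∀ (c : S), c • z = 0 → c ∈ Q := fun c hc => hzQ ((Submodule.mem_annihilator_span_singleton _ _).2 hc)
  have hnot : ∀ a : R, a ∉ p → algebraMap R S a ∉ Q := fun a ha h => ha ((Ideal.over_def q p).ge (hQq h))
  have hsmulz : ∀ (c : R), algebraMap R S c • z = x ⊗ₜ[R] (c • y) := fun c => by
    rw [algebraMap_smul, TensorProduct.tmul_smul]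
  have hpQ : ∀ a ∈ p, algebraMap R S a ∈ Q := fun a ha => by
    obtain ⟨w, hw, k, hk⟩ := hy2 a ha
    have := hQmem (algebraMap R S (w * a ^ k)) (by rw [hsmulz, hk, TensorProduct.tmul_zero])
    rw [map_mul, map_pow] at this
    exact hQ.mem_of_pow_mem k ((hQ.mem_or_mem this).resolve_left (hnot w hw))
  haveI : Q.LiesOver p := ⟨le_antisymm (fun a ha => hpQ a ha) fun a ha => by_contra fun h => hnot a h ha⟩
  have hfQ : ∀ g (hg : g ∈ G), f g hg ∈ Q := by
    intro g hg
    have hex : ∃ c : R, c ∉ p ∧ (algebraMap R S c * (algebraMap R S (r g hg) * f g hg)) • z = 0 := by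
      show ∃ c : R, c ∉ p ∧ _ • (x ⊗ₜ[R] y : N ⊗[R] M) = 0
      suffices h : ∀ n ∈ (Ideal.span (T g hg : Set R)).map (algebraMap R S) • (⊤ : Submodule S N),
          ∃ c : R, c ∉ p ∧ n ⊗ₜ[R] (c • y) = (0 : N ⊗[R] M) by
        obtain ⟨c, hc, h0⟩ := h _ (hTx g hg)
        refine ⟨c, hc, ?_⟩
        rw [mul_smul, algebraMap_smul, TensorProduct.smul_tmul', ← TensorProduct.tmul_smul]
        exact h0
      intro n hn
      rw [← FlatInjLib.mem_smul_top_iff_map] at hn
      refine Submodule.smul_induction_on hn (fun a ha n _ => ?_) fun n n' hn hn' => ?_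
      · obtain ⟨c, hc, hca⟩ : ∃ c : R, c ∉ p ∧ (c * a) • y = 0 := by
          refine Submodule.span_induction (fun a ha => ?_) ⟨1, p.one_notMem, by simp⟩ (fun a b _ _ ha hb => ?_)
            (fun d a _ ha => ?_) ha
          · exact hy3 a (Finset.mem_biUnion.2 ⟨⟨g, hg⟩, Finset.mem_attach _ _, ha⟩)
          · obtain ⟨c, hc, hca⟩ := ha
            obtain ⟨e, he, heb⟩ := hb
            exact ⟨c * e, Ideal.IsPrime.mul_notMem inferInstance hc he, by
              rw [mul_add, add_smul, mul_right_comm, mul_comm, mul_smul, hca, smul_zero, mul_assoc, mul_smul, heb,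
                smul_zero, add_zero]⟩
          · obtain ⟨c, hc, hca⟩ := ha
            exact ⟨c, hc, by rw [smul_eq_mul, mul_left_comm, mul_smul, hca, smul_zero]⟩
        exact ⟨c, hc, by rw [TensorProduct.smul_tmul, smul_smul, mul_comm, hca, TensorProduct.tmul_zero]⟩
      · obtain ⟨c, hc, h⟩ := hn
        obtain ⟨e, he, h'⟩ := hn'
        exact ⟨c * e, Ideal.IsPrime.mul_notMem inferInstance hc he, by
          rw [TensorProduct.add_tmul, mul_comm c e, mul_smul, TensorProduct.tmul_smul, h, smul_zero, ← mul_smul,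
            mul_comm e c, mul_smul, TensorProduct.tmul_smul, h', smul_zero, add_zero]⟩
    obtain ⟨c, hc, hc0⟩ := hex
    exact ((hQ.mem_or_mem (((hQ.mem_or_mem (hQmem _ hc0)).resolve_left (hnot c hc)))).resolve_left (hnot _ (hr g hg)))
  intro s hs
  rw [← comap_fiberIdeal p Q]
  rw [← hPq, Ideal.mem_comap, ← hG] at hs
  refine Ideal.mem_comap.2 (Ideal.span_le.2 (fun g hg => ?_) hs)
  rw [hfv g hg]
  exact Ideal.mul_mem_left _ _ (Ideal.mem_map_of_mem _ (hfQ g hg))

omit [Algebra.FiniteType R S] [Module.Finite S N] in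
/-- If `p` is not weakly associated to `M`, the elements of `Ah ⊗ M` killed by powers of `p` vanish. -/
theorem eq_zero_of_kill (Ah : Type u) [CommRing Ah] [IsLocalRing Ah] [Algebra (Localization.AtPrime p) Ah]
    [IsLocalHom (algebraMap (Localization.AtPrime p) Ah)] [Hensel.IsHenselization (Localization.AtPrime p) Ah]
    [Algebra R Ah] [IsScalarTower R (Localization.AtPrime p) Ah] (hmax : IsLocalRing.maximalIdeal Ah = p.map (algebraMap R Ah))
    (hp : p ∉ FlatCA.weakAss R M) :
    ∀ w : Ah ⊗[R] M, (∀ a ∈ p, ∃ k : ℕ, algebraMap R Ah a ^ k • w = 0) → w = 0 := by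
  let A := Localization.AtPrime p
  let M' := Ah ⊗[R] M
  intro w hw
  by_contra hw0
  apply hp
  have h1 : IsLocalRing.maximalIdeal Ah ∈ FlatCA.weakAss Ah M' := by
    refine ⟨w, ⟨inferInstance, IsLocalRing.le_maximalIdeal fun h => hw0 ?_⟩, fun Q hQ _ => ?_⟩
    · have := (Submodule.mem_annihilator_span_singleton w (1 : Ah)).1 (h ▸ Submodule.mem_top)
      rwa [one_smul] at this
    · rw [hmax, Ideal.map_le_iff_le_comap]
      intro a ha
      obtain ⟨k, hk⟩ := hw a ha
      exact hQ.1.mem_of_pow_mem k (hQ.2 ((Submodule.mem_annihilator_span_singleton _ _).2 hk))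
  let e : M' ≃ₗ[Ah] Ah ⊗[A] LocalizedModule p.primeCompl M :=
    (TensorProduct.AlgebraTensorModule.cancelBaseChange R A Ah Ah M).symm.trans
      (TensorProduct.AlgebraTensorModule.congr (LinearEquiv.refl Ah Ah)
        (LocalizedModule.equivTensorProduct p.primeCompl M).symm)
  rw [WeakBCLib.weakAss_of_linearEquiv e] at h1
  have hdis : Disjoint (p.primeCompl : Set R) (p : Set R) := Set.disjoint_left.2 fun x hx hxp => hx hxp
  rw [Groth.Agent.S9589.result p.primeCompl M p hdis]
  have h2 := (Groth.Agent.WEtAmpLib.weakAss_indEtale_iff A Ah (Groth.Agent.S12236.result A Ah) _).1 h1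
  rw [← Localization.AtPrime.map_eq_maximalIdeal] at h2
  exact h2

/-- A local extension of `S_q` over the henselisation. -/
theorem exists_local (Ah : Type u) [CommRing Ah] [IsLocalRing Ah] [Algebra (Localization.AtPrime p) Ah]
    [IsLocalHom (algebraMap (Localization.AtPrime p) Ah)] [Hensel.IsHenselization (Localization.AtPrime p) Ah]
    [Algebra R Ah] [IsScalarTower R (Localization.AtPrime p) Ah] [Module.Flat R Ah] :
    ∃ (L : Type u) (_ : CommRing L) (_ : IsLocalRing L) (_ : Algebra S L) (_ : Algebra Ah L) (_ : Algebra R L)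
      (_ : IsScalarTower R S L) (_ : IsScalarTower R Ah L), IsLocalHom (algebraMap Ah L) ∧ Algebra.EssFiniteType Ah L ∧
      Module.Flat S L ∧ (IsLocalRing.maximalIdeal L).comap (algebraMap S L) = q := by
  -- a prime of `Ah ⊗ S` over `q` and the maximal ideal
  let A := Localization.AtPrime p
  letI algSS' : Algebra S (Ah ⊗[R] S) := Algebra.TensorProduct.rightAlgebra
  let eK := RingEquiv.ofBijective _ (Groth.Agent.S0508.result A Ah)
  let ψ₀ : Ah →+* q.ResidueField := ((Ideal.ResidueField.map p q (algebraMap R S) (Ideal.over_def q p)).comp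
    eK.symm.toRingHom).comp (IsLocalRing.residue Ah)
  have hψ₀ : ∀ a : R, ψ₀ (algebraMap R Ah a) = algebraMap R q.ResidueField a := fun a => by
    rw [IsScalarTower.algebraMap_apply R A Ah]
    show Ideal.ResidueField.map p q (algebraMap R S) (Ideal.over_def q p)
      (eK.symm (IsLocalRing.residue Ah (algebraMap A Ah (algebraMap R A a)))) = _
    rw [show IsLocalRing.residue Ah (algebraMap A Ah (algebraMap R A a)) = eK (IsLocalRing.residue A (algebraMap R A a))
      from rfl, RingEquiv.symm_apply_apply]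
    refine (Ideal.ResidueField.map_algebraMap p q (algebraMap R S) (Ideal.over_def q p) a).trans ?_
    rw [← IsScalarTower.algebraMap_apply]
  let ψ : Ah ⊗[R] S →ₐ[R] q.ResidueField := Algebra.TensorProduct.lift { ψ₀ with commutes' := hψ₀ }
    (IsScalarTower.toAlgHom R S q.ResidueField) fun _ _ => Commute.all _ _
  let q' : Ideal (Ah ⊗[R] S) := RingHom.ker ψ.toRingHom
  haveI : q'.IsPrime := RingHom.ker_isPrime _
  have hψr : ∀ s : S, ψ (algebraMap S (Ah ⊗[R] S) s) = algebraMap S q.ResidueField s := fun s => by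
    show ψ ((1 : Ah) ⊗ₜ s) = _
    simp [ψ]
  haveI hq'q : q'.LiesOver q := ⟨by
    ext s
    show s ∈ q ↔ ψ (algebraMap S (Ah ⊗[R] S) s) = 0
    rw [hψr, Ideal.algebraMap_residueField_eq_zero]⟩
  have hq'm : IsLocalRing.maximalIdeal Ah = q'.comap (algebraMap Ah (Ah ⊗[R] S)) := by
    refine (IsLocalRing.eq_maximalIdeal ?_).symm
    have hsurj : q'.comap (algebraMap Ah (Ah ⊗[R] S)) = RingHom.ker ψ₀ := by
      ext a
      show ψ (a ⊗ₜ (1 : S)) = 0 ↔ ψ₀ a = 0
      simp [ψ]
    rw [hsurj, show RingHom.ker ψ₀ = IsLocalRing.maximalIdeal Ah from by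
      ext a
      show Ideal.ResidueField.map p q (algebraMap R S) (Ideal.over_def q p) (eK.symm (IsLocalRing.residue Ah a)) = 0 ↔ _
      rw [map_eq_zero_iff _ (RingHom.injective _), map_eq_zero_iff _ eK.symm.injective, IsLocalRing.residue_eq_zero_iff]]
    infer_instance
  let L := Localization.AtPrime q'
  haveI : IsScalarTower S (Ah ⊗[R] S) L := inferInstance
  haveI : IsScalarTower R S L := IsScalarTower.of_algebraMap_eq fun a => by
    rw [IsScalarTower.algebraMap_apply R (Ah ⊗[R] S) L, IsScalarTower.algebraMap_apply S (Ah ⊗[R] S) L,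
      ← IsScalarTower.algebraMap_apply R S (Ah ⊗[R] S)]
  haveI : Algebra.IsPushout R S Ah (Ah ⊗[R] S) := inferInstance
  haveI : Module.Flat S (Ah ⊗[R] S) := Module.Flat.isBaseChange R S Ah (Ah ⊗[R] S) Algebra.IsPushout.out
  haveI : Module.Flat (Ah ⊗[R] S) L := IsLocalization.flat L q'.primeCompl
  haveI : Module.Flat S L := Module.Flat.trans S (Ah ⊗[R] S) L
  haveI : IsLocalHom (algebraMap Ah L) := ⟨fun a ha => by
    by_contra hna
    have ha' : algebraMap Ah (Ah ⊗[R] S) a ∈ q' :=
      hq'm.le ((IsLocalRing.mem_maximalIdeal a).2 hna)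
    rw [IsScalarTower.algebraMap_apply Ah (Ah ⊗[R] S) L, IsLocalization.AtPrime.isUnit_to_map_iff L q'] at ha
    exact ha ha'⟩
  haveI : Algebra.EssFiniteType (Ah ⊗[R] S) L := Algebra.EssFiniteType.of_isLocalization L q'.primeCompl
  haveI : Algebra.EssFiniteType Ah L := Algebra.EssFiniteType.comp Ah (Ah ⊗[R] S) L
  have hLq : (IsLocalRing.maximalIdeal L).comap (algebraMap S L) = q := by
    rw [IsScalarTower.algebraMap_eq S (Ah ⊗[R] S) L, ← Ideal.comap_comap]
    exact (congrArg (Ideal.comap (algebraMap S (Ah ⊗[R] S))) (IsLocalization.AtPrime.under_maximalIdeal L q')).trans hq'q.over.symm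
  haveI : (IsLocalRing.maximalIdeal L).LiesOver q := ⟨hLq.symm⟩
  exact ⟨L, inferInstance, inferInstance, inferInstance, inferInstance, inferInstance, inferInstance, inferInstance,
    inferInstance, inferInstance, inferInstance, hLq⟩

/-- An element of `N ⊗ M` killed locally by powers of `p` dies in the extension. -/
theorem tmul_eq_zero_of_kill (hflat : FlatCA.FlatAt R q N) (A Ah L : Type u) [CommRing A] [IsLocalRing A] [Algebra R A]
    [IsLocalization.AtPrime A p] [CommRing Ah] [HenselianLocalRing Ah] [Algebra A Ah] [Algebra.WeaklyEtale A Ah]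
    [Algebra R Ah] [IsScalarTower R A Ah] [CommRing L] [IsLocalRing L] [Algebra S L] [Algebra Ah L] [Algebra R L]
    [IsScalarTower R S L] [IsScalarTower R Ah L] [IsLocalHom (algebraMap Ah L)] [Algebra.EssFiniteType Ah L]
    [Module.Flat S L] (hLq : (IsLocalRing.maximalIdeal L).comap (algebraMap S L) = q)
    (hΓ : ∀ w : Ah ⊗[R] M, (∀ a ∈ p, ∃ k : ℕ, algebraMap R Ah a ^ k • w = 0) → w = 0)
    (z : N ⊗[R] M) (hz : q ∈ (Submodule.span S {z}).annihilator.minimalPrimes) : (1 : L) ⊗ₜ[S] z = 0 := by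
  classical
  haveI : (IsLocalRing.maximalIdeal L).LiesOver q := ⟨hLq.symm⟩
  let M' := Ah ⊗[R] M
  haveI : SMulCommClass S Ah L := ⟨fun s a l => by
    rw [Algebra.smul_def, Algebra.smul_def, Algebra.smul_def, Algebra.smul_def, mul_left_comm]⟩
  let W := L ⊗[S] N
  haveI : IsScalarTower R Ah W := IsScalarTower.of_algebraMap_smul fun a w => by
    induction w using TensorProduct.induction_on with
    | zero => rw [smul_zero, smul_zero]
    | tmul l n => rw [TensorProduct.smul_tmul', TensorProduct.smul_tmul', algebraMap_smul]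
    | add u v hu hv => rw [smul_add, smul_add, hu, hv]
  haveI : IsScalarTower Ah L W := TensorProduct.isScalarTower_left
  haveI : IsScalarTower R L W := TensorProduct.isScalarTower_left
  haveI : Module.Finite L W := inferInstance
  have hWf : FlatCA.FlatAt R (IsLocalRing.maximalIdeal L) W :=
    (FlatInjLib.flatAt_iff_of_isBaseChange (TensorProduct.mk S L N 1) (TensorProduct.isBaseChange S N L) q
      (IsLocalRing.maximalIdeal L)).2 hflat
  haveI hWR : Module.Flat R W := by
    haveI : IsLocalizedModule (IsLocalRing.maximalIdeal L).primeCompl (LinearMap.id : W →ₗ[L] W) :=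
      { map_units := fun u => (IsLocalRing.notMem_maximalIdeal.1 u.2).map _
        surj := fun w => ⟨⟨w, 1⟩, one_smul _ _⟩
        exists_of_eq := fun h => ⟨1, by simpa using h⟩ }
    haveI : Module.Flat R (LocalizedModule (IsLocalRing.maximalIdeal L).primeCompl W) := hWf
    exact Module.Flat.of_linearEquiv
      ((IsLocalizedModule.iso (IsLocalRing.maximalIdeal L).primeCompl (LinearMap.id : W →ₗ[L] W)).symm.restrictScalars R)
  letI : Module A W := Module.compHom W (algebraMap A Ah)
  haveI : IsScalarTower A Ah W := IsScalarTower.of_algebraMap_smul fun _ _ => rfl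
  haveI : IsScalarTower R A W := IsScalarTower.of_algebraMap_smul fun a w => by
    show algebraMap A Ah (algebraMap R A a) • w = a • w
    rw [← IsScalarTower.algebraMap_apply, algebraMap_smul]
  haveI : Module.Flat A W := (Module.flat_iff_of_isLocalization A p.primeCompl W).2 hWR
  haveI : Module.Flat Ah W := Groth.Agent.AbsFlat.flat_of_flat_mul (Algebra.WeaklyEtale.flat_lmul' A Ah) W
  have hML : CAlg.IsMittagLeffler Ah W := Groth.Agent.S1215.result (A := Ah) (B := L) W
  -- the element upstairs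
  have hkill : ∀ a ∈ p, ∃ k : ℕ, a ^ k • ((1 : L) ⊗ₜ[S] z) = 0 := by
    intro a ha
    obtain ⟨-, hle, hmin⟩ := (Groth.Agent.WeakAssLib.mem_minimalPrimes_ann z q).1 hz
    obtain ⟨s, hs, k, hk⟩ := hmin (algebraMap R S a) ((Ideal.over_def q p).le ha)
    refine ⟨k, ?_⟩
    have hu : IsUnit (algebraMap S L s) :=
      IsLocalRing.notMem_maximalIdeal.1 fun h => hs (hLq.le (Ideal.mem_comap.2 h))
    refine hu.smul_eq_zero.1 ?_
    rw [algebraMap_smul, ← TensorProduct.tmul_smul, ← TensorProduct.tmul_smul, ← algebraMap_smul S (a ^ k) z, map_pow,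
      ← mul_smul, hk, TensorProduct.tmul_zero]
  let e₁ : L ⊗[S] (N ⊗[R] M) ≃ₗ[L] W ⊗[R] M := (TensorProduct.AlgebraTensorModule.assoc R S L L N M).symm
  let e₂ : W ⊗[R] M ≃ₗ[Ah] W ⊗[Ah] M' := (TensorProduct.AlgebraTensorModule.cancelBaseChange R Ah Ah W M).symm
  let w := e₂ (e₁ ((1 : L) ⊗ₜ[S] z))
  have hw : ∀ a ∈ p, ∃ k : ℕ, algebraMap R Ah a ^ k • w = 0 := fun a ha => by
    obtain ⟨k, hk⟩ := hkill a ha
    refine ⟨k, ?_⟩
    rw [← map_pow, ← map_smul e₂, algebraMap_smul, ← LinearMapClass.map_smul_of_tower e₁, hk, map_zero, map_zero]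
  choose k hk using hw
  let φ : M' →ₗ[Ah] ({a : R // a ∈ p} → M') := LinearMap.pi fun a => algebraMap R Ah a.1 ^ k a.1 a.2 • LinearMap.id
  have hφ : Function.Injective φ := (injective_iff_map_eq_zero φ).2 fun m' hm' => hΓ m' fun a ha =>
    ⟨k a ha, congrFun hm' ⟨a, ha⟩⟩
  have hw0 : w = 0 := by
    refine Module.Flat.lTensor_preserves_injective_linearMap φ hφ (hML _ (fun _ => M') ?_)
    rw [map_zero, map_zero]
    funext a
    have hpi : ∀ v : W ⊗[Ah] M', TensorProduct.piRightHom Ah Ah W (fun _ : {a : R // a ∈ p} => M') (φ.lTensor W v) a =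
        algebraMap R Ah a.1 ^ k a.1 a.2 • v := fun v => by
      induction v using TensorProduct.induction_on with
      | zero => simp
      | tmul u m' => simp [φ, TensorProduct.tmul_smul]
      | add u v hu hv => simp only [map_add, Pi.add_apply, hu, hv, smul_add]
    rw [hpi, hk a.1 a.2, Pi.zero_apply]
  exact e₁.injective (e₂.injective (hw0.trans (by rw [map_zero, map_zero])))

/-- The image in the base of a weakly associated point is weakly associated. -/
theorem mem_weakAss_base (hflat : FlatCA.FlatAt R q N) (hq : q ∈ FlatCA.weakAss S (N ⊗[R] M)) :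
    p ∈ FlatCA.weakAss R M := by
  classical
  obtain ⟨z, hz⟩ := hq
  by_contra hp
  let A := Localization.AtPrime p
  obtain ⟨Ah, _, _, _, _, _⟩ := Groth.Agent.S0506.result A
  haveI : HenselianLocalRing Ah := Hensel.IsHenselization.henselian A
  letI : Algebra R Ah := ((algebraMap A Ah).comp (algebraMap R A)).toAlgebra
  haveI : IsScalarTower R A Ah := IsScalarTower.of_algebraMap_eq fun _ => rfl
  haveI := Groth.Agent.WEtAmpLib.weaklyEtale_hens A (B := Ah)
  haveI : Module.Flat A Ah := Algebra.WeaklyEtale.flat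
  haveI : Module.Flat R A := IsLocalization.flat A p.primeCompl
  haveI : Module.Flat R Ah := Module.Flat.trans R A Ah
  have hmax : IsLocalRing.maximalIdeal Ah = p.map (algebraMap R Ah) := by
    rw [IsScalarTower.algebraMap_eq R A Ah, ← Ideal.map_map, Localization.AtPrime.map_eq_maximalIdeal,
      Groth.Agent.S0507.result A Ah]
  obtain ⟨L, _, _, _, _, _, _, _, hloc, hess, hfl, hLq⟩ := exists_local p q Ah
  haveI := hloc
  haveI := hess
  haveI := hfl
  have h0 := tmul_eq_zero_of_kill p q hflat A Ah L hLq (eq_zero_of_kill p Ah hmax hp) z hz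
  have htop := FlatInjLib.map_annihilator_eq_top_of_tmul_eq_zero (S' := L) z h0
  refine (IsLocalRing.maximalIdeal.isMaximal L).ne_top (top_le_iff.1 (htop.ge.trans ?_))
  rw [Ideal.map_le_iff_le_comap, hLq]
  exact hz.1.2

end WeakAssTensLib
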